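import Groth.Agent.DescSecLib.Nerve
import Groth.Agent.AnLib.FlatPullback
import Groth.Prelude.Def_EtCore

/-! The pullback system of small etale sites. -/

set_option autoImplicit false
set_option backward.isDefEq.respectTransparency false
set_option backward.isDefEq.respectTransparency.types false
set_option linter.style.haveILetI false

universe u

open CategoryTheory CategoryTheory.Limits Opposite AlgebraicGeometry

namespace DescSecLib

noncomputable section

lemma nat_aux {𝒞 : Type*} [Category 𝒞] {a b c d e k l m : 𝒞} {A : a ⟶ b} {C : b ⟶ c} {p : c ⟶ d}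
    {p₁ : b ⟶ e} {p₂ : e ⟶ d} {q₁ : a ⟶ k} {B : k ⟶ e} {q₂ : k ⟶ l} {i : l ⟶ d} {C' : a ⟶ m}
    {H : m ⟶ c} {q : m ⟶ l} (h₁ : A ≫ p₁ = q₁ ≫ B) (h₂ : B ≫ p₂ = q₂ ≫ i) (h₃ : C ≫ p = p₁ ≫ p₂)
    (h₄ : H ≫ p = q ≫ i) (h₅ : C' ≫ q = q₁ ≫ q₂) : (A ≫ C) ≫ p = (C' ≫ H) ≫ p := by
  rw [Category.assoc, h₃, reassoc_of% h₁, h₂, Category.assoc, h₄, reassoc_of% h₅]

/-- Iterated base change against base change along the composite. -/
def bcCompHom {X Y W : Scheme.{u}} (f : X ⟶ Y) (g : Y ⟶ W) (h : X ⟶ W) (w : f ≫ g = h) (U : W.Etale) :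
    (EtCoh.bc f).obj ((EtCoh.bc g).obj U) ⟶ (EtCoh.bc h).obj U :=
  MorphismProperty.Over.homMk
    (pullback.lift (pullback.fst (pullback.snd U.hom g) f ≫ pullback.fst U.hom g)
      (pullback.snd (pullback.snd U.hom g) f) (by
        rw [Category.assoc, pullback.condition, ← Category.assoc, pullback.condition, Category.assoc, w]))
    (pullback.lift_snd _ _ _)

/-- Base change along the identity. -/
def bcIdIso (X : Scheme.{u}) (U : X.Etale) : (EtCoh.bc (𝟙 X)).obj U ≅ U :=
  MorphismProperty.Over.isoMk (asIso (pullback.fst U.hom (𝟙 X))) (by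
    change pullback.fst U.hom (𝟙 X) ≫ U.hom = pullback.snd U.hom (𝟙 X)
    rw [pullback.condition, Category.comp_id])

lemma bc_map_fst {X Y : Scheme.{u}} (f : X ⟶ Y) {U V : Y.Etale} (i : U ⟶ V) :
    ((EtCoh.bc f).map i).left ≫ pullback.fst V.hom f = pullback.fst U.hom f ≫ i.left :=
  pullback.lift_fst _ _ _

lemma bc_map_snd {X Y : Scheme.{u}} (f : X ⟶ Y) {U V : Y.Etale} (i : U ⟶ V) :
    ((EtCoh.bc f).map i).left ≫ pullback.snd V.hom f = pullback.snd U.hom f :=
  pullback.lift_snd _ _ _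

lemma bcCompHom_fst {X Y W : Scheme.{u}} (f : X ⟶ Y) (g : Y ⟶ W) (h : X ⟶ W) (w : f ≫ g = h) (U : W.Etale) :
    (bcCompHom f g h w U).left ≫ pullback.fst U.hom h =
      pullback.fst (pullback.snd U.hom g) f ≫ pullback.fst U.hom g :=
  pullback.lift_fst _ _ _

lemma bcCompHom_snd {X Y W : Scheme.{u}} (f : X ⟶ Y) (g : Y ⟶ W) (h : X ⟶ W) (w : f ≫ g = h) (U : W.Etale) :
    (bcCompHom f g h w U).left ≫ pullback.snd U.hom h = pullback.snd (pullback.snd U.hom g) f :=
  pullback.lift_snd _ _ _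

lemma bc_hom_ext {X Y : Scheme.{u}} (f : X ⟶ Y) {T : X.Etale} {U : Y.Etale}
    (a b : T ⟶ (EtCoh.bc f).obj U) (h : a.left ≫ pullback.fst U.hom f = b.left ≫ pullback.fst U.hom f) :
    a = b := by
  apply MorphismProperty.Over.Hom.ext
  apply pullback.hom_ext h
  exact (Over.w a.hom).trans (Over.w b.hom).symm

lemma bcCompHom_naturality {X Y W : Scheme.{u}} (f : X ⟶ Y) (g : Y ⟶ W) (h : X ⟶ W) (w : f ≫ g = h)
    {U V : W.Etale} (i : U ⟶ V) :
    (EtCoh.bc f).map ((EtCoh.bc g).map i) ≫ bcCompHom f g h w V =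
      bcCompHom f g h w U ≫ (EtCoh.bc h).map i := by
  refine bc_hom_ext h _ _ ?_
  exact nat_aux (bc_map_fst f ((EtCoh.bc g).map i)) (bc_map_fst g i) (bcCompHom_fst f g h w V)
    (bc_map_fst h i) (bcCompHom_fst f g h w U)

lemma bcIdIso_naturality (X : Scheme.{u}) {U V : X.Etale} (i : U ⟶ V) :
    (EtCoh.bc (𝟙 X)).map i ≫ (bcIdIso X V).hom = (bcIdIso X U).hom ≫ i := by
  apply MorphismProperty.Over.Hom.ext
  exact bc_map_fst (𝟙 X) i

/-- Comparison of composite direct images. -/
def etPc {X Y W : Scheme.{u}} (f : X ⟶ Y) (g : Y ⟶ W) (h : X ⟶ W) (w : f ≫ g = h) :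
    EtCoh.push h ⟶ EtCoh.push f ⋙ EtCoh.push g where
  app G := ⟨{ app := fun U => G.obj.map (bcCompHom f g h w U.unop).op
              naturality := fun U V i => by
                change G.obj.map _ ≫ G.obj.map _ = G.obj.map _ ≫ G.obj.map _
                rw [← G.obj.map_comp, ← G.obj.map_comp]
                exact congrArg (fun t => G.obj.map (Quiver.Hom.op t)) (bcCompHom_naturality f g h w i.unop).symm }⟩
  naturality G G' φ := by
    refine Sheaf.hom_ext (NatTrans.ext ?_)
    funext U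
    exact (φ.hom.naturality _).symm

/-- Direct image along the identity. -/
def etPid (X : Scheme.{u}) : 𝟭 (EtCoh.Ab X) ≅ EtCoh.push (𝟙 X) :=
  NatIso.ofComponents
    (fun G =>
      { hom := ⟨{ app := fun U => G.obj.map (bcIdIso X U.unop).hom.op
                  naturality := fun U V i => by
                    change G.obj.map _ ≫ G.obj.map _ = G.obj.map _ ≫ G.obj.map _
                    rw [← G.obj.map_comp, ← G.obj.map_comp]
                    exact congrArg (fun t => G.obj.map (Quiver.Hom.op t))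
                      (bcIdIso_naturality X i.unop).symm }⟩
        inv := ⟨{ app := fun U => G.obj.map (bcIdIso X U.unop).inv.op
                  naturality := fun U V i => by
                    change G.obj.map _ ≫ G.obj.map _ = G.obj.map _ ≫ G.obj.map _
                    rw [← G.obj.map_comp, ← G.obj.map_comp]
                    refine congrArg (fun t => G.obj.map (Quiver.Hom.op t)) ?_
                    refine (Iso.inv_comp_eq (bcIdIso X V.unop)).2 ?_
                    exact ((Category.assoc _ _ _).symm.trans ((Iso.comp_inv_eq (bcIdIso X U.unop)).2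
                      (bcIdIso_naturality X i.unop).symm)).symm }⟩
        hom_inv_id := by
          refine Sheaf.hom_ext (NatTrans.ext ?_)
          funext U
          change G.obj.map _ ≫ G.obj.map _ = 𝟙 (G.obj.obj _)
          rw [← G.obj.map_comp, ← G.obj.map_id, ← op_comp, Iso.inv_hom_id]
          rfl
        inv_hom_id := by
          refine Sheaf.hom_ext (NatTrans.ext ?_)
          funext U
          change G.obj.map _ ≫ G.obj.map _ = 𝟙 (G.obj.obj _)
          rw [← G.obj.map_comp, ← G.obj.map_id, ← op_comp, Iso.hom_inv_id]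
          rfl })
    (fun {G G'} φ => by
      refine Sheaf.hom_ext (NatTrans.ext ?_)
      funext U
      exact (φ.hom.naturality _).symm)

/-- The section `1`. -/
def etOneSec (Y : Scheme.{u}) : AddCommGrpCat.of (ULift.{u + 1} ℤ) ⟶ (EtCore.gsec Y).obj (EtCoh.const Y ℤ) :=
  (EtCore.constAdj Y).unit.app _

lemma constAdj_homEquiv_apply {Y : Scheme.{u}} {G : EtCoh.Ab Y} (a : EtCoh.const Y ℤ ⟶ G) :
    (EtCore.constAdj Y).homEquiv _ _ a = etOneSec Y ≫ (EtCore.gsec Y).map a :=
  Adjunction.homEquiv_unit ..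

lemma et_ext_Z {Y : Scheme.{u}} {G : EtCoh.Ab Y} (a b : EtCoh.const Y ℤ ⟶ G)
    (h : (EtCore.gsec Y).map a (etOneSec Y ⟨1⟩) = (EtCore.gsec Y).map b (etOneSec Y ⟨1⟩)) : a = b := by
  apply ((EtCore.constAdj Y).homEquiv _ _).injective
  rw [constAdj_homEquiv_apply, constAdj_homEquiv_apply]
  refine AddCommGrpCat.ext fun m => ?_
  obtain ⟨m⟩ := m
  have hm : (ULift.up m : ULift.{u + 1} ℤ) = m • (ULift.up (1 : ℤ)) := by
    apply ULift.ext
    simp
  rw [hm]
  simp only [map_zsmul]
  exact congrArg (m • ·) h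

/-- Global sections of a direct image. -/
def etσ {X Y : Scheme.{u}} (f : X ⟶ Y) : EtCoh.push f ⋙ EtCore.gsec Y ⟶ EtCore.gsec X where
  app G := G.obj.map (EtCore.bcTopIso f).inv.op
  naturality G G' φ := (φ.hom.naturality _).symm

/-- `Z ⟶ f^* Z`. -/
def etZ {X Y : Scheme.{u}} (f : X ⟶ Y) : EtCoh.const X ℤ ⟶ (EtCoh.pull f).obj (EtCoh.const Y ℤ) :=
  ((EtCore.constAdj X).homEquiv _ _).symm
    (etOneSec Y ≫ (EtCore.gsec Y).map ((EtCoh.pullPushAdj f).unit.app _) ≫ (etσ f).app _)

/-- The system. -/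
def etSys : PullSys (fun Y : Scheme.{u} => EtCoh.Ab Y) where
  pull f := EtCoh.pull f
  push f := EtCoh.push f
  adj f := EtCoh.pullPushAdj f
  add f := EtCore.pull_additive f
  lim f := AnLib.sheafPullback_preservesFiniteLimits.{u + 1} (EtCoh.bc f) _ _
  colim f := EtCore.pull_preservesFiniteColimits f
  pc := etPc
  pid := etPid
  pc_assoc f g t a b c h₁ h₂ h₃ h₄ G := by
    refine Sheaf.hom_ext (NatTrans.ext ?_)
    funext U
    change G.obj.map _ ≫ G.obj.map _ = G.obj.map _ ≫ G.obj.map _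
    rw [← G.obj.map_comp, ← G.obj.map_comp]
    refine congrArg G.obj.map (Quiver.Hom.unop_inj (bc_hom_ext c _ _ ?_))
    exact nat_aux (bc_map_fst f (bcCompHom g t b h₂ U.unop)) (bcCompHom_fst g t b h₂ U.unop)
      (bcCompHom_fst f b c h₃ U.unop) (bcCompHom_fst a t c h₄ U.unop)
      (bcCompHom_fst f g a h₁ ((EtCoh.bc t).obj U.unop))
  pc_id g G := by
    refine Sheaf.hom_ext (NatTrans.ext ?_)
    funext U
    change G.obj.map _ = G.obj.map _
    refine congrArg (fun q => G.obj.map (Quiver.Hom.op q)) (bc_hom_ext g _ _ ?_)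
    exact bcCompHom_fst _ _ _ _ _
  Z Y := EtCoh.const Y ℤ
  gs Y := EtCore.gsec Y
  one Y := etOneSec Y ⟨1⟩
  ext_Z a b h := et_ext_Z a b h
  σ f := etσ f
  σ_comp f g h w G := by
    change G.obj.map _ ≫ G.obj.map _ ≫ G.obj.map _ = G.obj.map _
    rw [← G.obj.map_comp, ← G.obj.map_comp]
    exact congrArg G.obj.map (Quiver.Hom.unop_inj ((EtCore.bcTopIsTerminal h).hom_ext _ _))
  σ_id Y G := by
    change G.obj.map _ ≫ G.obj.map _ = 𝟙 (G.obj.obj _)
    rw [← G.obj.map_comp, ← G.obj.map_id]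
    exact congrArg G.obj.map (Quiver.Hom.unop_inj ((EtCore.topIsTerminal Y).hom_ext _ _))
  z f := etZ f
  z_one := by
    intro X Y f
    have h := Equiv.apply_symm_apply ((EtCore.constAdj X).homEquiv (AddCommGrpCat.of (ULift.{u + 1} ℤ)) _)
      (etOneSec Y ≫ (EtCore.gsec Y).map ((EtCoh.pullPushAdj f).unit.app _) ≫ (etσ f).app _)
    rw [constAdj_homEquiv_apply] at h
    exact ConcreteCategory.congr_hom h ⟨1⟩

end

end DescSecLib
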