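import Groth.Prelude.Def_SpSeq
import Mathlib.Data.Set.Finite.Basic
import Mathlib.Algebra.Homology.Embedding.ExtendHomology

/-! A bicomplex with exact rows away from `p = 0` gives a degenerate spectral sequence from page one. -/

set_option autoImplicit false
set_option backward.isDefEq.respectTransparency false
set_option backward.isDefEq.respectTransparency.types false
set_option linter.style.haveILetI false

universe v u

open CategoryTheory CategoryTheory.Limits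

namespace DescSecLib

noncomputable section

variable {C : Type u} [Category.{v} C] [Abelian C] (K : ℤ → CochainComplex C ℤ)

/-- Terms of the pages. -/
def pgX (r : ℤ) (pq : ℤ × ℤ) : C := if r = 1 then (K pq.2).X pq.1 else (K pq.2).homology pq.1

lemma pgX_one (pq : ℤ × ℤ) : pgX K 1 pq = (K pq.2).X pq.1 := if_pos rfl

lemma pgX_ne {r : ℤ} (h : r ≠ 1) (pq : ℤ × ℤ) : pgX K r pq = (K pq.2).homology pq.1 := if_neg h

/-- Differentials. -/
def pgD (r : ℤ) (a b : ℤ × ℤ) : pgX K r a ⟶ pgX K r b :=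
  if h : r = 1 ∧ a.2 = b.2 then
    eqToHom (by rw [h.1, pgX_one]) ≫ (K a.2).d a.1 b.1 ≫ eqToHom (by rw [h.1, pgX_one, h.2])
  else 0

/-- Pages. -/
def pg (r : ℤ) : HomologicalComplex C (ComplexShape.up' (⟨r, 1 - r⟩ : ℤ × ℤ)) where
  X := pgX K r
  d := pgD K r
  shape a b hab := by
    unfold pgD
    split_ifs with h
    · rw [(K a.2).shape _ _ (fun h' => hab ?_), zero_comp, comp_zero]
      obtain ⟨a₁, a₂⟩ := a
      obtain ⟨b₁, b₂⟩ := b
      obtain ⟨rfl, h2⟩ := h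
      simp at h2 h'
      simp [h2, h']
    · rfl
  d_comp_d' a b c _ _ := by
    unfold pgD
    split_ifs with h h'
    · obtain ⟨a₁, a₂⟩ := a
      obtain ⟨b₁, b₂⟩ := b
      obtain ⟨c₁, c₂⟩ := c
      obtain ⟨rfl, h2⟩ := h
      obtain ⟨-, h3⟩ := h'
      simp only at h2 h3
      subst h2 h3
      simp
    all_goals simp

lemma nonempty_iso_succ (r r' : ℤ) (pq : ℤ × ℤ) (h : r + 1 = r') (hr : 1 ≤ r) :
    Nonempty ((pg K r).homology pq ≅ (pg K r').X pq) := by
  have e' : (pg K r').X pq = (K pq.2).homology pq.1 := pgX_ne K (by lia) pq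
  by_cases h1 : r = 1
  · subst h1
    obtain ⟨p, q⟩ := pq
    have hp : (ComplexShape.up' (⟨1, 1 - 1⟩ : ℤ × ℤ)).prev (p, q) = (p - 1, q) :=
      ComplexShape.prev_eq' _ (by simp)
    have hn : (ComplexShape.up' (⟨1, 1 - 1⟩ : ℤ × ℤ)).next (p, q) = (p + 1, q) :=
      ComplexShape.next_eq' _ (by simp)
    refine ⟨ShortComplex.homologyMapIso ((pg K 1).isoSc' _ _ _ hp hn ≪≫ ?_ ≪≫
      ((K q).isoSc' (p - 1) p (p + 1) (by simp) (by simp)).symm) ≪≫ eqToIso e'.symm⟩
    refine ShortComplex.isoMk (eqToIso (pgX_one K _)) (eqToIso (pgX_one K _)) (eqToIso (pgX_one K _)) ?_ ?_ <;>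
      simp [pg, pgD]
  · have hz' : ∀ a b, (pg K r).d a b = 0 := fun a b => dif_neg fun h => h1 h.1
    exact ⟨(ShortComplex.HomologyData.ofZeros ((pg K r).sc pq) (hz' _ _) (hz' _ _)).left.homologyIso ≪≫
      eqToIso ((pgX_ne K h1 pq).trans e'.symm)⟩

/-- The filtration concentrated in degree zero. -/
def fil₀ (X : C) (p : ℤ) : Subobject X := if p ≤ 0 then ⊤ else ⊥

lemma fil₀_anti (X : C) : Antitone (fil₀ X) := by
  intro p q h
  unfold fil₀
  split_ifs with h1 h2 <;> first | exact le_rfl | exact bot_le | (exfalso; lia)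

lemma isZero_gr_fil₀ (X : C) {p : ℤ} (hp : p ≠ 0) : IsZero (SpSeq.grPiece (fil₀ X) (fil₀_anti X) p) := by
  have h : fil₀ X (p + 1) = fil₀ X p := by
    unfold fil₀
    split_ifs <;> first | rfl | (exfalso; lia)
  unfold SpSeq.grPiece SpSeq.subquot
  haveI : IsIso ((fil₀ X (p + 1)).ofLE (fil₀ X p) (fil₀_anti X (Int.le_add_one le_rfl))) :=
    ⟨(fil₀ X p).ofLE (fil₀ X (p + 1)) h.ge, by simp, by simp⟩
  exact isZero_cokernel_of_epi _

lemma nonempty_subquot_top_bot {X : C} {A B : Subobject X} (hA : A = ⊤) (hB : B = ⊥) (h : B ≤ A) :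
    Nonempty (SpSeq.subquot A B h ≅ X) := by
  subst hA hB
  unfold SpSeq.subquot
  haveI : IsIso (⊤ : Subobject X).arrow := Subobject.isIso_arrow_iff_eq_top _ |>.2 rfl
  refine ⟨?_ ≪≫ asIso (⊤ : Subobject X).arrow⟩
  have : (⊥ : Subobject X).ofLE ⊤ h = 0 := by
    rw [← cancel_mono (⊤ : Subobject X).arrow, Subobject.ofLE_arrow, zero_comp, Subobject.bot_arrow]
  exact (cokernelIsoOfEq this) ≪≫ cokernelZeroIsoTarget

lemma nonempty_gr_fil₀_zero (X : C) :
    Nonempty (SpSeq.grPiece (fil₀ X) (fil₀_anti X) 0 ≅ X) :=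
  nonempty_subquot_top_bot (if_pos le_rfl) (if_neg (by lia)) _

theorem exists_spectralSequence_of_rows (H : ℤ → C) (e : ∀ n, H n ≅ (K n).homology 0)
    (hz : ∀ q p, p ≠ 0 → IsZero ((K q).homology p))
    (hb : ∀ n : ℤ, Set.Finite {p : ℤ | ¬ IsZero ((K (n - p)).X p)}) :
    ∃ (E : CohomologicalSpectralSequence C 1) (a : SpSeq.Abutment E H),
      (∀ n, a.IsFinite n) ∧ SpSeq.IsBounded E ∧
        ∀ p q : ℤ, Nonempty ((E.page 1 le_rfl).X (p, q) ≅ (K q).X p) := by
  let E : CohomologicalSpectralSequence C 1 :=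
    { page := fun r _ => pg K r
      iso := fun r r' pq h hr => (nonempty_iso_succ K r r' pq h hr).some }
  have hd : ∀ r, 2 ≤ r → ∀ a b, (pg K r).d a b = 0 := fun r hr a b => dif_neg fun h => by
    have := h.1
    lia
  have hst : ∀ pq, SpSeq.StationaryAt E pq 2 := fun pq =>
    ⟨by lia, fun r _ hr => ⟨hd r hr _ _, hd r hr _ _⟩⟩
  have hβ : ∀ pq : ℤ × ℤ, Nonempty ((pg K 2).X pq ≅
      SpSeq.grPiece (fil₀ (H (pq.1 + pq.2))) (fil₀_anti _) pq.1) := by
    rintro ⟨p, q⟩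
    have e2 : (pg K 2).X (p, q) = (K q).homology p := pgX_ne K (r := 2) (by lia) (p, q)
    by_cases hp : p = 0
    · subst hp
      exact ⟨eqToIso (e2.trans (by simp)) ≪≫ (e (0 + q)).symm ≪≫ (nonempty_gr_fil₀_zero _).some.symm⟩
    · exact ⟨((hz q p hp).of_iso (eqToIso e2)).iso (isZero_gr_fil₀ _ hp)⟩
  let a : SpSeq.Abutment E H :=
    { fil := fun n => fil₀ (H n)
      anti := fun n => fil₀_anti _
      rk := fun _ => 2
      stat := hst
      β := fun pq => (hβ pq).some }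
  refine ⟨E, a, fun n => ⟨⟨0, (if_pos le_rfl : fil₀ (H n) 0 = ⊤)⟩, ⟨1, (if_neg (by lia) : fil₀ (H n) 1 = ⊥)⟩⟩, fun n => ?_,
    fun p q => ⟨eqToIso (pgX_one K (p, q))⟩⟩
  refine Set.Finite.subset (hb n) fun p hp hz' => hp ?_
  change IsZero (pgX K 1 (p, n - p))
  rwa [pgX_one]

end

end DescSecLib
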