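import Mathlib

/-! Compatibility of `Ext.mapExactFunctor` with natural transformations and composition of functors. -/

set_option autoImplicit false
set_option backward.isDefEq.respectTransparency false
set_option backward.isDefEq.respectTransparency.types false

universe w w' w'' v v' v'' u u' u''

open CategoryTheory CategoryTheory.Limits CategoryTheory.Abelian

namespace DescSecLib

variable {C : Type u} [Category.{v} C] [Abelian C] [HasExt.{w} C] [EnoughInjectives C]
variable {D : Type u'} [Category.{v'} D] [Abelian D] [HasExt.{w'} D]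
variable {E : Type u''} [Category.{v''} E] [Abelian E] [HasExt.{w''} E]

theorem exists_eq_comp_extClass {X Y : C} {n : ℕ} (e : Ext.{w} X Y (n + 1)) :
    ∃ (S : ShortComplex C) (hS : S.ShortExact) (hY : S.X₁ = Y) (x : Ext.{w} X S.X₃ n),
      hY ▸ x.comp hS.extClass rfl = e := by
  let S := ShortComplex.mk (Injective.ι Y) (cokernel.π (Injective.ι Y)) (cokernel.condition _)
  have hS : S.ShortExact :=
    { exact := ShortComplex.exact_of_g_is_cokernel _ (cokernelIsCokernel _) }
  have : Injective S.X₂ := Injective.injective_under Y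
  obtain ⟨x, hx⟩ := Ext.covariant_sequence_exact₁ X hS e (Ext.eq_zero_of_injective _) rfl
  exact ⟨S, hS, rfl, x, hx⟩

variable {F G : C ⥤ D} [F.Additive] [PreservesFiniteLimits F] [PreservesFiniteColimits F]
  [G.Additive] [PreservesFiniteLimits G] [PreservesFiniteColimits G]

/-- Naturality of `mapExactFunctor` in the functor. -/
theorem mapExactFunctor_natTrans (τ : F ⟶ G) {X Y : C} {n : ℕ} (e : Ext.{w} X Y n) :
    (e.mapExactFunctor F).comp (Ext.mk₀ (τ.app Y)) (add_zero n) =
      (Ext.mk₀ (τ.app X)).comp (e.mapExactFunctor G) (zero_add n) := by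
  induction n generalizing Y with
  | zero =>
    obtain ⟨f, rfl⟩ := (Ext.mk₀_bijective X Y).2 e
    simp only [Ext.mapExactFunctor_mk₀, Ext.mk₀_comp_mk₀, NatTrans.naturality]
  | succ n ih =>
    obtain ⟨S, hS, rfl, x, rfl⟩ := exists_eq_comp_extClass e
    rw [Ext.mapExactFunctor_comp, Ext.mapExactFunctor_comp, Ext.mapExactFunctor_extClass,
      Ext.mapExactFunctor_extClass, Ext.comp_assoc_of_third_deg_zero]
    have h := (hS.map_of_exact F).extClass_naturality (hS.map_of_exact G) (S.mapNatTrans τ)
    refine (congrArg (fun t => (x.mapExactFunctor F).comp t (rfl : n + 1 = n + 1)) h).trans ?_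
    rw [← Ext.comp_assoc_of_second_deg_zero]
    exact (congrArg (fun t => Ext.comp t (hS.map_of_exact G).extClass (rfl : n + 1 = n + 1)) (ih x)).trans
      (Ext.comp_assoc _ _ _ (zero_add n) rfl (by simp))

/-- `mapExactFunctor` of a composite of exact functors. -/
theorem mapExactFunctor_compFunctor (F : C ⥤ D) (G : D ⥤ E)
    [F.Additive] [PreservesFiniteLimits F] [PreservesFiniteColimits F]
    [G.Additive] [PreservesFiniteLimits G] [PreservesFiniteColimits G]
    [(F ⋙ G).Additive] [PreservesFiniteLimits (F ⋙ G)] [PreservesFiniteColimits (F ⋙ G)]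
    {X Y : C} {n : ℕ} (e : Ext.{w} X Y n) :
    e.mapExactFunctor (F ⋙ G) = (e.mapExactFunctor F).mapExactFunctor G := by
  induction n generalizing Y with
  | zero =>
    obtain ⟨f, rfl⟩ := (Ext.mk₀_bijective X Y).2 e
    simp only [Ext.mapExactFunctor_mk₀, Functor.comp_map]
  | succ n ih =>
    obtain ⟨S, hS, rfl, x, rfl⟩ := exists_eq_comp_extClass e
    simp only [Ext.mapExactFunctor_comp, Ext.mapExactFunctor_extClass, ih x]
    try rfl

/-- `mapExactFunctor` of the identity. -/
theorem mapExactFunctor_idFunctor {X Y : C} {n : ℕ} (e : Ext.{w} X Y n) :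
    e.mapExactFunctor (𝟭 C) = e := by
  induction n generalizing Y with
  | zero =>
    obtain ⟨f, rfl⟩ := (Ext.mk₀_bijective X Y).2 e
    simp only [Ext.mapExactFunctor_mk₀, Functor.id_map]
  | succ n ih =>
    obtain ⟨S, hS, rfl, x, rfl⟩ := exists_eq_comp_extClass e
    simp only [Ext.mapExactFunctor_comp, Ext.mapExactFunctor_extClass, ih x]
    try rfl

end DescSecLib
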