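import Groth.Agent.DescSecLib.Sys
import Groth.Agent.DescSecLib.Degen
import Mathlib.AlgebraicTopology.ExtraDegeneracy

/-! The descent spectral sequence of a map with a section. -/

set_option autoImplicit false
set_option backward.isDefEq.respectTransparency false
set_option backward.isDefEq.respectTransparency.types false
set_option linter.style.haveILetI false

universe w va ua vb ub

open CategoryTheory CategoryTheory.Limits CategoryTheory.Abelian Opposite Simplicial AlgebraicTopology

namespace DescSecLib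

noncomputable section

variable {ℬ : Type ub} [Category.{vb} ℬ] {X S : ℬ} (f : X ⟶ S) (s : S ⟶ X) (hs : s ≫ f = 𝟙 S)
  [∀ n : ℕ, HasWidePullback S (fun _ : Fin (n + 1) => X) fun _ => f]

instance hasWidePullback_arrow : ∀ n : ℕ, HasWidePullback (Arrow.mk f).right
    (fun _ : Fin (n + 1) => (Arrow.mk f).left) fun _ => (Arrow.mk f).hom :=
  inferInstanceAs (∀ n : ℕ, HasWidePullback S (fun _ : Fin (n + 1) => X) fun _ => f)

instance hasWidePullback_len (n : SimplexCategory) :
    HasWidePullback S (fun _ : Fin (n.len + 1) => X) fun _ => f :=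
  inferInstanceAs (HasWidePullback S (fun _ : Fin (n.len + 1) => X) fun _ => f)

/-- The Cech nerve in `Over S`. -/
def overNerve : SimplicialObject (Over S) where
  obj n := Over.mk (WidePullback.base (fun _ : Fin (n.unop.len + 1) => f))
  map g := Over.homMk ((Arrow.mk f).cechNerve.map g)
    (((Arrow.mk f).augmentedCechNerve.hom.naturality g).trans (Category.comp_id _))
  map_id n := Over.OverMorphism.ext ((Arrow.mk f).cechNerve.map_id n)
  map_comp g h := Over.OverMorphism.ext ((Arrow.mk f).cechNerve.map_comp g h)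

/-- Augmented over the final object. -/
def augOverNerve : SimplicialObject.Augmented (Over S) where
  left := overNerve f
  right := Over.mk (𝟙 S)
  hom :=
    { app := fun n => Over.homMk (WidePullback.base (fun _ : Fin (n.unop.len + 1) => f)) (Category.comp_id _)
      naturality := fun m n g => Over.OverMorphism.ext
        ((Arrow.mk f).augmentedCechNerve.hom.naturality g) }

/-- Its extra degeneracy. -/
def edOver : (augOverNerve f).ExtraDegeneracy :=
  let ed := Arrow.AugmentedCechNerve.extraDegeneracy (Arrow.mk f) ⟨s, hs⟩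
  { s' := Over.homMk ed.s' (ed.s'_comp_ε)
    s := fun n => Over.homMk (ed.s n) (Arrow.AugmentedCechNerve.ExtraDegeneracy.s_comp_base (Arrow.mk f) ⟨s, hs⟩ n)
    s'_comp_ε := Over.OverMorphism.ext ed.s'_comp_ε
    s₀_comp_δ₁ := Over.OverMorphism.ext ed.s₀_comp_δ₁
    s_comp_δ₀ := fun n => Over.OverMorphism.ext (ed.s_comp_δ₀ n)
    s_comp_δ := fun n i => Over.OverMorphism.ext (ed.s_comp_δ n i)
    s_comp_σ := fun n i => Over.OverMorphism.ext (ed.s_comp_σ n i) }

variable {A : ℬ → Type ua} [∀ Y, Category.{va} (A Y)] [∀ Y, Abelian (A Y)]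
  [∀ Y, HasExt.{w} (A Y)] [∀ Y, EnoughInjectives (A Y)] (P : PullSys A) (F : A S)

/-- The augmented nerve of cohomology groups, in the opposite category. -/
def augH (q : ℕ) : SimplicialObject.Augmented AddCommGrpCat.{w}ᵒᵖ :=
  ((SimplicialObject.Augmented.whiskering (Over S) _).obj (P.Hfun F q).rightOp).obj (augOverNerve f)

/-- The row complex. -/
def rowNat (q : ℕ) : CochainComplex AddCommGrpCat.{w} ℕ :=
  (AlternatingFaceMapComplex.obj (SimplicialObject.Augmented.drop.obj (augH f P F q))).unop

lemma rowNat_X (q p : ℕ) : (rowNat f P F q).X p = AddCommGrpCat.of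
    (Ext.{w} (P.Z (widePullback S (fun _ : Fin (p + 1) => X) fun _ => f))
      ((P.pull (WidePullback.base (fun _ : Fin (p + 1) => f))).obj F) q) := rfl

include hs in
lemma nonempty_rowNat_homology (q p : ℕ) :
    Nonempty ((rowNat f P F q).homology p ≅
      (((ChainComplex.single₀ _).obj (SimplicialObject.Augmented.point.obj (augH f P F q))).homology p).unop) :=
  ⟨(HomologicalComplex.homologyUnop _ p) ≪≫
    (HomotopyEquiv.toHomologyIso (SimplicialObject.Augmented.ExtraDegeneracy.homotopyEquiv
      ((edOver f s hs).map (P.Hfun F q).rightOp)) p).symm.unop⟩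

include hs in
lemma isZero_rowNat_homology (q p : ℕ) (hp : p ≠ 0) : IsZero ((rowNat f P F q).homology p) :=
  (IsZero.unop (HomologicalComplex.isZero_single_obj_homology (ComplexShape.down ℕ) 0 _ p hp)).of_iso
    (nonempty_rowNat_homology f s hs P F q p).some

include hs in
lemma nonempty_rowNat_homology_zero (q : ℕ) :
    Nonempty ((rowNat f P F q).homology 0 ≅ AddCommGrpCat.of (Ext.{w} (P.Z S) F q)) :=
  ⟨(nonempty_rowNat_homology f s hs P F q 0).some ≪≫
    (HomologicalComplex.singleObjHomologySelfIso (ComplexShape.down ℕ) 0 _).symm.unop ≪≫ (P.nonempty_iso_id F q).some⟩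

include hs in
theorem exists_descent_spectralSequence :
    ∃ (E : CohomologicalSpectralSequence AddCommGrpCat.{w} 1)
      (a : SpSeq.Abutment E (fun n : ℤ =>
        if 0 ≤ n then AddCommGrpCat.of (Ext.{w} (P.Z S) F n.toNat) else AddCommGrpCat.of PUnit.{w + 1})),
      (∀ n, a.IsFinite n) ∧ SpSeq.IsBounded E ∧
      ∀ p q : ℤ, Nonempty ((E.page 1 le_rfl).X (p, q) ≅
        (if 0 ≤ p ∧ 0 ≤ q then
          AddCommGrpCat.of (Ext.{w} (P.Z (widePullback S (fun _ : Fin (p.toNat + 1) => X) fun _ => f))
            ((P.pull (WidePullback.base (fun _ : Fin (p.toNat + 1) => f))).obj F) q.toNat)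
         else AddCommGrpCat.of PUnit.{w + 1})) := by
  let K : ℤ → CochainComplex AddCommGrpCat.{w} ℤ := fun q =>
    if 0 ≤ q then (rowNat f P F q.toNat).extend ComplexShape.embeddingUpNat
    else (HomologicalComplex.single _ _ 0).obj (AddCommGrpCat.of PUnit.{w + 1})
  have hPU : IsZero (AddCommGrpCat.of PUnit.{w + 1}) := AddCommGrpCat.isZero_of_subsingleton _
  have hKneg : ∀ q, ¬ 0 ≤ q → IsZero (K q) := fun q hq => by
    simp only [K, if_neg hq]
    exact Functor.map_isZero _ hPU
  have hKpos : ∀ q, 0 ≤ q → K q = (rowNat f P F q.toNat).extend ComplexShape.embeddingUpNat :=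
    fun q hq => if_pos hq
  have hX : ∀ p q : ℤ, Nonempty ((K q).X p ≅ (if 0 ≤ p ∧ 0 ≤ q then
      AddCommGrpCat.of (Ext.{w} (P.Z (widePullback S (fun _ : Fin (p.toNat + 1) => X) fun _ => f))
        ((P.pull (WidePullback.base (fun _ : Fin (p.toNat + 1) => f))).obj F) q.toNat)
      else AddCommGrpCat.of PUnit.{w + 1})) := by
    intro p q
    by_cases hq : 0 ≤ q
    · by_cases hp : 0 ≤ p
      · rw [if_pos ⟨hp, hq⟩, hKpos q hq]
        exact ⟨(rowNat f P F q.toNat).extendXIso ComplexShape.embeddingUpNat (i := p.toNat) (by simp [hp])⟩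
      · rw [if_neg (fun h => hp h.1), hKpos q hq]
        exact ⟨((rowNat f P F q.toNat).isZero_extend_X _ p (fun i hi => hp (by simp at hi; lia))).iso hPU⟩
    · rw [if_neg (fun h => hq h.2)]
      exact ⟨((HomologicalComplex.eval _ _ p).map_isZero (hKneg q hq)).iso hPU⟩
  have hz : ∀ q p : ℤ, p ≠ 0 → IsZero ((K q).homology p) := by
    intro q p hp
    by_cases hq : 0 ≤ q
    · rw [hKpos q hq]
      by_cases hp0 : 0 ≤ p
      · exact (isZero_rowNat_homology f s hs P F q.toNat p.toNat (by lia)).of_iso
          ((rowNat f P F q.toNat).extendHomologyIso ComplexShape.embeddingUpNat (j := p.toNat) (by simp [hp0]))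
      · exact ShortComplex.isZero_homology_of_isZero_X₂ _
          ((rowNat f P F q.toNat).isZero_extend_X _ p (fun i hi => hp0 (by simp at hi; lia)))
    · exact (HomologicalComplex.homologyFunctor _ _ p).map_isZero (hKneg q hq)
  have he : ∀ n : ℤ, Nonempty ((if 0 ≤ n then AddCommGrpCat.of (Ext.{w} (P.Z S) F n.toNat)
      else AddCommGrpCat.of PUnit.{w + 1}) ≅ (K n).homology 0) := by
    intro n
    by_cases hn : 0 ≤ n
    · rw [if_pos hn, hKpos n hn]
      exact ⟨(nonempty_rowNat_homology_zero f s hs P F n.toNat).some.symm ≪≫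
        ((rowNat f P F n.toNat).extendHomologyIso ComplexShape.embeddingUpNat (j := 0) (by simp)).symm⟩
    · rw [if_neg hn]
      exact ⟨hPU.iso ((HomologicalComplex.homologyFunctor _ _ 0).map_isZero (hKneg n hn))⟩
  obtain ⟨E, a, ha, hb, hE⟩ := exists_spectralSequence_of_rows K _ (fun n => (he n).some) hz (fun n => by
    refine Set.Finite.subset (Set.finite_Icc 0 n) fun p hp => ?_
    have h' : ¬ IsZero ((K (n - p)).X p) := hp
    refine ⟨?_, ?_⟩
    · by_contra hp0
      exact h' (IsZero.of_iso (by rw [if_neg (fun h => hp0 h.1)]; exact hPU) (hX p (n - p)).some)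
    · by_contra hq0
      exact h' (IsZero.of_iso (by rw [if_neg (fun h => hq0 (by lia))]; exact hPU) (hX p (n - p)).some))
  exact ⟨E, a, ha, hb, fun p q => ⟨(hE p q).some ≪≫ (hX p q).some⟩⟩

end

end DescSecLib
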