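import Groth.Agent.DescSecLib.ExtFunctor

/-! Systems of exact inverse image functors and the functoriality of cohomology they give. -/

set_option autoImplicit false
set_option backward.isDefEq.respectTransparency false
set_option backward.isDefEq.respectTransparency.types false

universe w va ua vb ub

open CategoryTheory CategoryTheory.Limits CategoryTheory.Abelian Opposite

namespace DescSecLib

noncomputable section

theorem ext_comp_aux {C : Type ua} [Category.{va} C] [Abelian C] [HasExt.{w} C] {X B C₁ C₂ D D' K G : C}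
    {n : ℕ} (a : X ⟶ B) (b : B ⟶ C₁) (c : C₁ ⟶ C₂) (z : X ⟶ C₂) (t : D ⟶ D') (u : D' ⟶ G) (c' : D ⟶ K)
    (θ : K ⟶ G) (e : Ext.{w} C₁ D n) (e' : Ext.{w} C₂ K n) (h₀ : 0 + n = n)
    (h₁ : e.comp (Ext.mk₀ c') (add_zero n) = (Ext.mk₀ c).comp e' (zero_add n))
    (h₂ : t ≫ u = c' ≫ θ) (h₃ : a ≫ b ≫ c = z) :
    ((Ext.mk₀ z).comp e' h₀).comp (Ext.mk₀ θ) (add_zero n) =
      ((Ext.mk₀ a).comp (((Ext.mk₀ b).comp e (zero_add n)).comp (Ext.mk₀ t) (add_zero n))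
        (zero_add n)).comp (Ext.mk₀ u) (add_zero n) := by
  subst h₃
  calc _ = (((Ext.mk₀ a).comp (Ext.mk₀ b) (zero_add 0)).comp
      (e.comp (Ext.mk₀ c') (add_zero n)) (zero_add n)).comp (Ext.mk₀ θ) (add_zero n) := by
        rw [h₁, Ext.mk₀_comp_mk₀, ← Ext.comp_assoc_of_second_deg_zero, Ext.mk₀_comp_mk₀,
          Category.assoc]
    _ = _ := by
        simp only [← Ext.comp_assoc_of_second_deg_zero, Ext.mk₀_comp_mk₀,
          Ext.comp_assoc_of_third_deg_zero, h₂]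

variable {ℬ : Type ub} [Category.{vb} ℬ] (A : ℬ → Type ua) [∀ Y, Category.{va} (A Y)]
  [∀ Y, Abelian (A Y)] [∀ Y, HasExt.{w} (A Y)] [∀ Y, EnoughInjectives (A Y)]

/-- Inverse and direct images along the morphisms of `ℬ`, with global sections. -/
structure PullSys where
  pull : ∀ {X Y : ℬ}, (X ⟶ Y) → (A Y ⥤ A X)
  push : ∀ {X Y : ℬ}, (X ⟶ Y) → (A X ⥤ A Y)
  adj : ∀ {X Y : ℬ} (f : X ⟶ Y), pull f ⊣ push f
  add : ∀ {X Y : ℬ} (f : X ⟶ Y), (pull f).Additive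
  lim : ∀ {X Y : ℬ} (f : X ⟶ Y), PreservesFiniteLimits (pull f)
  colim : ∀ {X Y : ℬ} (f : X ⟶ Y), PreservesFiniteColimits (pull f)
  pc : ∀ {X Y W : ℬ} (f : X ⟶ Y) (g : Y ⟶ W) (h : X ⟶ W), f ≫ g = h → (push h ⟶ push f ⋙ push g)
  pid : ∀ Y : ℬ, 𝟭 (A Y) ≅ push (𝟙 Y)
  pc_assoc : ∀ {X Y W T : ℬ} (f : X ⟶ Y) (g : Y ⟶ W) (t : W ⟶ T) (a : X ⟶ W) (b : Y ⟶ T)
    (c : X ⟶ T) (h₁ : f ≫ g = a) (h₂ : g ≫ t = b) (h₃ : f ≫ b = c) (h₄ : a ≫ t = c) (G : A X),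
    (pc f b c h₃).app G ≫ (pc g t b h₂).app ((push f).obj G) =
      (pc a t c h₄).app G ≫ (push t).map ((pc f g a h₁).app G)
  pc_id : ∀ {X Y : ℬ} (g : X ⟶ Y) (G : A X),
    (pc (𝟙 X) g g (Category.id_comp g)).app G = (push g).map ((pid X).hom.app G)
  Z : ∀ Y : ℬ, A Y
  gs : ∀ Y : ℬ, A Y ⥤ AddCommGrpCat.{va}
  one : ∀ Y : ℬ, (gs Y).obj (Z Y)
  ext_Z : ∀ {Y : ℬ} {G : A Y} (a b : Z Y ⟶ G), (gs Y).map a (one Y) = (gs Y).map b (one Y) → a = b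
  σ : ∀ {X Y : ℬ} (f : X ⟶ Y), push f ⋙ gs Y ⟶ gs X
  σ_comp : ∀ {X Y W : ℬ} (f : X ⟶ Y) (g : Y ⟶ W) (h : X ⟶ W) (w : f ≫ g = h) (G : A X),
    (gs W).map ((pc f g h w).app G) ≫ (σ g).app ((push f).obj G) ≫ (σ f).app G = (σ h).app G
  σ_id : ∀ (Y : ℬ) (G : A Y), (gs Y).map ((pid Y).hom.app G) ≫ (σ (𝟙 Y)).app G = 𝟙 _
  z : ∀ {X Y : ℬ} (f : X ⟶ Y), Z X ⟶ (pull f).obj (Z Y)
  z_one : ∀ {X Y : ℬ} (f : X ⟶ Y),
    (gs X).map (z f) (one X) = (σ f).app _ ((gs Y).map ((adj f).unit.app (Z Y)) (one Y))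

namespace PullSys

variable {A} (P : PullSys A)

instance {X Y : ℬ} (f : X ⟶ Y) : (P.pull f).Additive := P.add f
instance {X Y : ℬ} (f : X ⟶ Y) : PreservesFiniteLimits (P.pull f) := P.lim f
instance {X Y : ℬ} (f : X ⟶ Y) : PreservesFiniteColimits (P.pull f) := P.colim f

variable {X Y W : ℬ}

/-- `f^* g^* ⟶ h^*`. -/
def c (f : X ⟶ Y) (g : Y ⟶ W) (h : X ⟶ W) (w : f ≫ g = h) : P.pull g ⋙ P.pull f ⟶ P.pull h where
  app G := (((P.adj g).comp (P.adj f)).homEquiv _ _).symm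
    ((P.adj h).unit.app G ≫ (P.pc f g h w).app _)
  naturality G G' φ := by
    rw [← Adjunction.homEquiv_naturality_left_symm, ← Adjunction.homEquiv_naturality_right_symm]
    congr 1
    rw [Category.assoc, ← (P.pc f g h w).naturality, (P.adj h).unit_naturality_assoc]

lemma homEquiv_c (f : X ⟶ Y) (g : Y ⟶ W) (h : X ⟶ W) (w : f ≫ g = h) (G : A W) :
    (P.adj g).homEquiv _ _ ((P.adj f).homEquiv _ _ ((P.c f g h w).app G)) =
      (P.adj h).unit.app G ≫ (P.pc f g h w).app _ := by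
  simp only [c, Adjunction.comp_homEquiv]
  erw [Equiv.symm_trans_apply, Equiv.apply_symm_apply, Equiv.apply_symm_apply]

/-- `id^* ⟶ id`. -/
def c₀ (Y : ℬ) : P.pull (𝟙 Y) ⟶ 𝟭 (A Y) where
  app G := ((P.adj (𝟙 Y)).homEquiv _ _).symm ((P.pid Y).hom.app G)
  naturality G G' φ := by
    simp only [Functor.id_map, ← Adjunction.homEquiv_naturality_left_symm,
      ← Adjunction.homEquiv_naturality_right_symm]
    congr 1
    exact (P.pid Y).hom.naturality φ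

lemma unit_c₀ (Y : ℬ) (G : A Y) :
    (P.adj (𝟙 Y)).unit.app G ≫ (P.push (𝟙 Y)).map ((P.c₀ Y).app G) = (P.pid Y).hom.app G := by
  exact ((P.adj (𝟙 Y)).homEquiv_unit ..).symm.trans (Equiv.apply_symm_apply _ _)

lemma gs_naturality (f : X ⟶ Y) {G G' : A X} (φ : G ⟶ G') (x : (P.gs Y).obj ((P.push f).obj G)) :
    (P.gs X).map φ ((P.σ f).app G x) = (P.σ f).app G' ((P.gs Y).map ((P.push f).map φ) x) :=
  (ConcreteCategory.congr_hom ((P.σ f).naturality φ) x).symm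

lemma gs_map_map (Y : ℬ) {G G' G'' : A Y} (a : G ⟶ G') (b : G' ⟶ G'') (x : (P.gs Y).obj G) :
    (P.gs Y).map (a ≫ b) x = (P.gs Y).map b ((P.gs Y).map a x) :=
  ConcreteCategory.congr_hom ((P.gs Y).map_comp a b) x

lemma gs_map_z (f : X ⟶ Y) {G : A X} (φ : (P.pull f).obj (P.Z Y) ⟶ G) :
    (P.gs X).map (P.z f ≫ φ) (P.one X) =
      (P.σ f).app G ((P.gs Y).map ((P.adj f).homEquiv _ _ φ) (P.one Y)) := by
  rw [gs_map_map, P.z_one, gs_naturality]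
  erw [← gs_map_map]
  rw [Adjunction.homEquiv_unit]
  rfl

lemma z_comp (f : X ⟶ Y) (g : Y ⟶ W) (h : X ⟶ W) (w : f ≫ g = h) :
    P.z f ≫ (P.pull f).map (P.z g) ≫ (P.c f g h w).app (P.Z W) = P.z h := by
  refine P.ext_Z _ _ ?_
  rw [gs_map_z, Adjunction.homEquiv_naturality_left, gs_map_z]
  rw [homEquiv_c, gs_map_map, P.z_one]
  exact ConcreteCategory.congr_hom (P.σ_comp f g h w _) _

lemma z_id (Y : ℬ) : P.z (𝟙 Y) ≫ (P.c₀ Y).app (P.Z Y) = 𝟙 _ := by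
  refine P.ext_Z _ _ ?_
  rw [gs_map_z, Adjunction.homEquiv_unit, unit_c₀]
  refine (ConcreteCategory.congr_hom (P.σ_id Y _) _).trans ?_
  exact (ConcreteCategory.congr_hom ((P.gs Y).map_id _) _).symm

section Slice

variable {S : ℬ} (F : A S)

/-- The inverse image of `F`. -/
abbrev M (U : Over S) : A U.left := (P.pull U.hom).obj F

variable {U V T : Over S}

/-- `M V ⟶ φ_* M U`. -/
def k (φ : U ⟶ V) : P.M F V ⟶ (P.push φ.left).obj (P.M F U) :=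
  ((P.adj V.hom).homEquiv _ _).symm
    ((P.adj U.hom).unit.app F ≫ (P.pc φ.left V.hom U.hom (Over.w φ)).app _)

/-- `φ^* M V ⟶ M U`. -/
def θ (φ : U ⟶ V) : (P.pull φ.left).obj (P.M F V) ⟶ P.M F U :=
  ((P.adj φ.left).homEquiv _ _).symm (P.k F φ)

lemma homEquiv_k (φ : U ⟶ V) : (P.adj V.hom).homEquiv _ _ (P.k F φ) =
    (P.adj U.hom).unit.app F ≫ (P.pc φ.left V.hom U.hom (Over.w φ)).app _ :=
  Equiv.apply_symm_apply _ _

lemma k_comp (φ : U ⟶ V) (ψ : V ⟶ T) (a : U.left ⟶ T.left) (ha : φ.left ≫ ψ.left = a) (χ : U ⟶ T)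
    (hχ : χ.left = a) :
    P.k F ψ ≫ (P.push ψ.left).map (P.k F φ) =
      P.k F χ ≫ (P.pc φ.left ψ.left χ.left (ha.trans hχ.symm)).app _ := by
  apply ((P.adj T.hom).homEquiv _ _).injective
  rw [Adjunction.homEquiv_naturality_right, Adjunction.homEquiv_naturality_right, homEquiv_k,
    homEquiv_k, Category.assoc, Category.assoc]
  erw [← (P.pc ψ.left T.hom V.hom (Over.w ψ)).naturality (P.k F φ)]
  rw [← Category.assoc, ← Adjunction.homEquiv_unit, homEquiv_k, Category.assoc,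
    P.pc_assoc φ.left ψ.left T.hom χ.left V.hom U.hom (ha.trans hχ.symm) (Over.w ψ) (Over.w φ)
      (Over.w χ)]

lemma θ_comp (φ : U ⟶ V) (ψ : V ⟶ T) :
    (P.pull φ.left).map (P.θ F ψ) ≫ P.θ F φ =
      (P.c φ.left ψ.left (φ ≫ ψ).left rfl).app _ ≫ P.θ F (φ ≫ ψ) := by
  apply ((P.adj φ.left).homEquiv _ _).injective
  apply ((P.adj ψ.left).homEquiv _ _).injective
  rw [Adjunction.homEquiv_naturality_left, Adjunction.homEquiv_naturality_right,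
    Adjunction.homEquiv_naturality_right, Adjunction.homEquiv_naturality_right, θ, θ, θ,
    Equiv.apply_symm_apply, Equiv.apply_symm_apply, homEquiv_c,
    k_comp P F φ ψ _ rfl (φ ≫ ψ) rfl, Category.assoc]
  erw [← (P.pc φ.left ψ.left (φ ≫ ψ).left rfl).naturality]
  rw [← Category.assoc, ← Adjunction.homEquiv_unit, Equiv.apply_symm_apply]

lemma θ_id (U : Over S) : P.θ F (𝟙 U) = (P.c₀ U.left).app _ := by
  show _ = ((P.adj (𝟙 U.left)).homEquiv _ _).symm _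
  unfold θ
  congr 1
  apply ((P.adj U.hom).homEquiv _ _).injective
  rw [homEquiv_k, Adjunction.homEquiv_unit]
  exact congrArg (_ ≫ ·) (P.pc_id U.hom _)

/-- Pullback on cohomology. -/
def Hmap (n : ℕ) (φ : U ⟶ V) :
    Ext.{w} (P.Z V.left) (P.M F V) n →+ Ext.{w} (P.Z U.left) (P.M F U) n :=
  ((Ext.mk₀ (P.θ F φ)).postcomp (P.Z U.left) (add_zero n)).comp
    (((Ext.mk₀ (P.z φ.left)).precomp ((P.pull φ.left).obj (P.M F V)) (zero_add n)).comp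
      ((P.pull φ.left).mapExtAddHom _ _ n))

lemma Hmap_apply (n : ℕ) (φ : U ⟶ V) (e : Ext.{w} (P.Z V.left) (P.M F V) n) :
    P.Hmap F n φ e = ((Ext.mk₀ (P.z φ.left)).comp (e.mapExactFunctor (P.pull φ.left)) (zero_add n)).comp
      (Ext.mk₀ (P.θ F φ)) (add_zero n) := rfl

lemma Hmap_id (n : ℕ) (U : Over S) (e : Ext.{w} (P.Z U.left) (P.M F U) n) :
    P.Hmap F n (𝟙 U) e = e := by
  rw [Hmap_apply, θ_id, Ext.comp_assoc_of_third_deg_zero]
  erw [mapExactFunctor_natTrans (P.c₀ U.left) e]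
  rw [mapExactFunctor_idFunctor, ← Ext.comp_assoc_of_second_deg_zero]
  · rw [Ext.mk₀_comp_mk₀]
    erw [P.z_id]
    exact Ext.mk₀_id_comp e

lemma Hmap_comp (n : ℕ) (φ : U ⟶ V) (ψ : V ⟶ T) (e : Ext.{w} (P.Z T.left) (P.M F T) n) :
    P.Hmap F n (φ ≫ ψ) e = P.Hmap F n φ (P.Hmap F n ψ e) := by
  rw [Hmap_apply P F n φ, Hmap_apply P F n ψ, Ext.mapExactFunctor_comp, Ext.mapExactFunctor_comp,
    Ext.mapExactFunctor_mk₀, Ext.mapExactFunctor_mk₀]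
  rw [← mapExactFunctor_compFunctor, Hmap_apply]
  exact ext_comp_aux _ _ _ _ _ _ _ _ _ _ _
    (mapExactFunctor_natTrans (P.c φ.left ψ.left (φ ≫ ψ).left rfl) e) (θ_comp P F φ ψ)
    (z_comp P φ.left ψ.left (φ ≫ ψ).left rfl)

/-- `U ↦ Ext^n(Z, M U)` as a contravariant functor on `Over S`. -/
def Hfun (n : ℕ) : (Over S)ᵒᵖ ⥤ AddCommGrpCat.{w} where
  obj U := AddCommGrpCat.of (Ext.{w} (P.Z U.unop.left) (P.M F U.unop) n)
  map φ := AddCommGrpCat.ofHom (P.Hmap F n φ.unop)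
  map_id U := AddCommGrpCat.ext fun e => P.Hmap_id F n U.unop e
  map_comp φ ψ := AddCommGrpCat.ext fun e => P.Hmap_comp F n ψ.unop φ.unop e

/-- At the base. -/
theorem nonempty_iso_id (n : ℕ) :
    Nonempty ((P.Hfun F n).obj (op (Over.mk (𝟙 S))) ≅ AddCommGrpCat.of (Ext.{w} (P.Z S) F n)) := by
  let e : P.pull (𝟙 S) ≅ 𝟭 (A S) :=
    Adjunction.leftAdjointUniq (P.adj (𝟙 S)) ((Adjunction.id (C := A S)).ofNatIsoRight (P.pid S))
  exact ⟨((extFunctorObj (P.Z S) n).mapIso (e.app F))⟩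

end Slice

end PullSys

end

end DescSecLib
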