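import Groth.Agent.DescSecLib.Nerve
import Groth.Prelude.Def_CohPull
import Groth.Prelude.Def_CohTop

/-! The pullback system of topological spaces. -/

set_option autoImplicit false
set_option backward.isDefEq.respectTransparency false
set_option backward.isDefEq.respectTransparency.types false
set_option linter.style.haveILetI false

universe u

open CategoryTheory CategoryTheory.Limits Opposite TopologicalSpace

namespace DescSecLib

noncomputable section

section

variable {Y : TopCat.{u}}

/-- The section `1`. -/
def topOne (Y : TopCat.{u}) : (CohTop.const Y (ULift.{u} ℤ)).obj.obj (op ⊤) :=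
  (CohPull.oneSec Y).hom ⟨1⟩

lemma adjZ_homEquiv_apply {G : CohTop.Ab Y} (a : CohTop.const Y (ULift.{u} ℤ) ⟶ G) :
    (CohPull.adjZ Y).homEquiv _ _ a = CohPull.oneSec Y ≫ a.hom.app (op ⊤) := by
  unfold CohPull.oneSec
  rw [Adjunction.homEquiv_unit, Adjunction.homEquiv_unit, CategoryTheory.Functor.map_id]
  erw [Category.comp_id]
  rfl

lemma top_ext_Z {G : CohTop.Ab Y} (a b : CohTop.const Y (ULift.{u} ℤ) ⟶ G)
    (h : a.hom.app (op ⊤) (topOne Y) = b.hom.app (op ⊤) (topOne Y)) : a = b := by
  apply ((CohPull.adjZ Y).homEquiv _ _).injective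
  rw [adjZ_homEquiv_apply, adjZ_homEquiv_apply]
  refine AddCommGrpCat.ext fun m => ?_
  obtain ⟨m⟩ := m
  have hm : (ULift.up m : ULift.{u} ℤ) = m • (ULift.up (1 : ℤ)) := by
    apply ULift.ext
    simp
  rw [hm]
  simp only [map_zsmul]
  exact congrArg (m • ·) h

end

/-- Comparison of composite direct images. -/
def topPc {X Y W : TopCat.{u}} (f : X ⟶ Y) (g : Y ⟶ W) (h : X ⟶ W) (w : f ≫ g = h) :
    CohTop.push h ⟶ CohTop.push f ⋙ CohTop.push g where
  app G := ⟨{ app := fun U => G.obj.map (eqToHom (by subst w; rfl)).op
              naturality := fun U V i => by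
                dsimp
                erw [← G.obj.map_comp, ← G.obj.map_comp]
                rfl }⟩
  naturality G G' φ := by
    refine Sheaf.hom_ext (NatTrans.ext ?_)
    funext U
    exact (φ.hom.naturality _).symm

/-- Direct image along the identity. -/
def topPid (Y : TopCat.{u}) : 𝟭 (CohTop.Ab Y) ≅ CohTop.push (𝟙 Y) :=
  NatIso.ofComponents
    (fun G =>
      { hom := ⟨{ app := fun U => G.obj.map (eqToHom (by rfl)).op
                  naturality := fun U V i => by
                    dsimp
                    erw [← G.obj.map_comp, ← G.obj.map_comp]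
                    rfl }⟩
        inv := ⟨{ app := fun U => G.obj.map (eqToHom (by rfl)).op
                  naturality := fun U V i => by
                    dsimp
                    erw [← G.obj.map_comp, ← G.obj.map_comp]
                    rfl }⟩
        hom_inv_id := by
          refine Sheaf.hom_ext (NatTrans.ext ?_)
          funext U
          change G.obj.map _ ≫ G.obj.map _ = 𝟙 (G.obj.obj _)
          rw [← G.obj.map_comp, ← G.obj.map_id]
          rfl
        inv_hom_id := by
          refine Sheaf.hom_ext (NatTrans.ext ?_)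
          funext U
          change G.obj.map _ ≫ G.obj.map _ = 𝟙 (G.obj.obj _)
          rw [← G.obj.map_comp, ← G.obj.map_id]
          rfl })
    (fun {G G'} φ => by
      refine Sheaf.hom_ext (NatTrans.ext ?_)
      funext U
      exact (φ.hom.naturality _).symm)

/-- The system. -/
def topSys : PullSys (fun Y : TopCat.{u} => CohTop.Ab Y) where
  pull f := CohTop.pull f
  push f := CohTop.push f
  adj f := CohPull.invPushAdj f
  add f := CohPull.additive_pull f
  lim f := CohPull.preservesFiniteLimits_pull f
  colim f := CohPull.preservesFiniteColimits_pull f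
  pc := topPc
  pid := topPid
  pc_assoc f g t a b c h₁ h₂ h₃ h₄ G := by
    refine Sheaf.hom_ext (NatTrans.ext ?_)
    funext U
    change G.obj.map _ ≫ G.obj.map _ = G.obj.map _ ≫ G.obj.map _
    rw [← G.obj.map_comp, ← G.obj.map_comp]
    rfl
  pc_id g G := by
    refine Sheaf.hom_ext (NatTrans.ext ?_)
    funext U
    change G.obj.map _ = G.obj.map _
    rfl
  Z Y := CohTop.const Y (ULift.{u} ℤ)
  gs Y := (sheafSections (Opens.grothendieckTopology Y) AddCommGrpCat.{u}).obj (op ⊤)
  one Y := topOne Y
  ext_Z a b h := top_ext_Z a b h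
  σ f :=
    { app := fun G => G.obj.map (eqToHom (by rfl)).op
      naturality := fun G G' φ => (φ.hom.naturality _).symm }
  σ_comp f g h w G := by
    change G.obj.map _ ≫ G.obj.map _ ≫ G.obj.map _ = G.obj.map _
    rw [← G.obj.map_comp, ← G.obj.map_comp]
    rfl
  σ_id Y G := by
    change G.obj.map _ ≫ G.obj.map _ = 𝟙 (G.obj.obj _)
    rw [← G.obj.map_comp, ← G.obj.map_id]
    rfl
  z f := CohPull.oneTo f
  z_one := by
    intro X Y f
    have h := Equiv.apply_symm_apply ((CohPull.adjZ X).homEquiv (AddCommGrpCat.of (ULift.{u} ℤ)) _)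
      (CohPull.oneSec Y ≫ ((CohPull.invPushAdj f).unit.app (CohTop.const Y (ULift.{u} ℤ))).hom.app (op ⊤))
    rw [adjZ_homEquiv_apply] at h
    refine (ConcreteCategory.congr_hom h ⟨1⟩).trans ?_
    exact (ConcreteCategory.congr_hom (((CohPull.inv f).obj (CohTop.const Y (ULift.{u} ℤ))).obj.map_id (op ⊤)) _).symm

end

end DescSecLib
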